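import Groth.Agent.Lib.TorsTorus15.Torus
import Groth.Agent.Lib.AVDegree22.MulRank
import Groth.Agent.Lib.RRKL13.Rank
import Groth.Agent.Lib.H12.FlatComp
import Groth.Agent.Lib.AbRigid.Shear
import Groth.Prelude.Def_Mor2

/-!
# The torsion of an extension of an abelian variety by a torus
-/

set_option autoImplicit false
set_option linter.style.haveILetI false
set_option maxSynthPendingDepth 3
set_option backward.isDefEq.respectTransparency false
set_option backward.isDefEq.respectTransparency.types false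
universe u

open CategoryTheory Limits MonoidalCategory CartesianMonoidalCategory MonObj AlgebraicGeometry

noncomputable section

namespace Groth.Agent.TorsTorus15

variable {k : Type u} [Field k]

/-- The degree of multiplication by `N` on an extension, hence of its kernel. -/
theorem torsion_deg (G T B : Over (Spec (CommRingCat.of k))) [GrpObj G] [IsCommMonObj G] [GrpObj T] [GrpObj B]
    [Smooth G.hom] [QuasiCompact G.hom] [ConnectedSpace ↥G.left]
    (i : T ⟶ G) [IsMonHom i] [IsClosedImmersion i.left] (hT : Red.IsTorus T)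
    (q : G ⟶ B) [IsMonHom q] [Surjective q.left] [Flat q.left] (hk : AlgGrp.IsKernel i q)
    [IsProper B.hom] [Smooth B.hom] [ConnectedSpace ↥B.left]
    (t a : ℕ) (ht : topologicalKrullDim ↥T.left = t) (ha : topologicalKrullDim ↥B.left = a)
    (N : ℕ) (hN : 0 < N)
    (K : Over (Spec (CommRingCat.of k))) [GrpObj K] (κ : K ⟶ G) [IsMonHom κ]
    (hK : AlgGrp.IsKernel κ ((𝟙 G) ^ N)) :
    Mor2.IsFinLocFreeOfDeg (N ^ (t + 2 * a)) K.hom := by
  haveI : Mono i := Over.mono_of_mono_left i
  haveI := Semiab15.isCommMonObj_of_isProper B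
  haveI := Semiab15.geometricallyIntegral_of_smooth B
  obtain ⟨hTl, hTq, -, hTc⟩ := Semiab15.torus_props hT
  haveI := hTl; haveI := hTq; haveI := hTc
  obtain ⟨hTf, hTfl, hTs, hTr⟩ := pow_props hT ht hN
  obtain ⟨hBf, hBfl, hBs⟩ := AVDegree22.isFinite_flat_surjective_pow B hN
  have hBr := AVDegree22.finrank_pow B ha hN
  haveI := hTf; haveI := hTfl; haveI := hTs; haveI := hBf; haveI := hBfl; haveI := hBs
  have hiq : i ≫ q = 1 := by rw [hk.w, Hom.one_def]
  let p1 : pullback q (𝟙 B ^ N) ⟶ G := pullback.fst q (𝟙 B ^ N)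
  let p2 : pullback q (𝟙 B ^ N) ⟶ B := pullback.snd q (𝟙 B ^ N)
  have hsqP : IsPullback p1 p2 q (𝟙 B ^ N) := IsPullback.of_hasPullback _ _
  have hφw : (𝟙 G ^ N) ≫ q = q ≫ (𝟙 B ^ N) := by
    rw [Isogeny14.hom_pow_comp q (𝟙 G), MonObj.comp_pow, Category.id_comp, Category.comp_id]
  let φ : G ⟶ pullback q (𝟙 B ^ N) := pullback.lift (𝟙 G ^ N) q hφw
  have hφ1 : φ ≫ p1 = 𝟙 G ^ N := pullback.lift_fst _ _ _
  have hφ2 : φ ≫ p2 = q := pullback.lift_snd _ _ _
  let μ' : G ⊗ T ⟶ G := fst G T * (snd G T ≫ i)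
  have hμq : μ' ≫ q = fst G T ≫ q := by
    rw [MonObj.mul_comp, Category.assoc, hiq, MonObj.comp_one, _root_.mul_one]
  have hψw : (fst G T ^ N * (snd G T ≫ i)) ≫ q = (fst G T ≫ q) ≫ (𝟙 B ^ N) := by
    rw [MonObj.mul_comp, Category.assoc, hiq, MonObj.comp_one, _root_.mul_one,
      Isogeny14.hom_pow_comp q (fst G T), MonObj.comp_pow, Category.comp_id]
  let ψ : G ⊗ T ⟶ pullback q (𝟙 B ^ N) := pullback.lift (fst G T ^ N * (snd G T ≫ i)) (fst G T ≫ q) hψw
  have hψ1 : ψ ≫ p1 = fst G T ^ N * (snd G T ≫ i) := pullback.lift_fst _ _ _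
  have hψ2 : ψ ≫ p2 = fst G T ≫ q := pullback.lift_snd _ _ _
  have keyT : ∀ {X : Over (Spec (CommRingCat.of k))} (h : X ⟶ G), h ≫ q = 1 → ∃ τ : X ⟶ T, τ ≫ i = h :=
    fun h hh => ⟨hk.lift h (toUnit _) (by rw [hh, Hom.one_def]), hk.lift_fst _ _ _⟩
  -- `ψ` is a base change of `q`
  have hkψ : ∀ s : PullbackCone q p2, ((s.fst ^ N)⁻¹ * (s.snd ≫ p1)) ≫ q = 1 := fun s => by
    rw [MonObj.mul_comp, GrpObj.inv_comp, Isogeny14.hom_pow_comp q s.fst, Category.assoc, hsqP.w, ← Category.assoc,
      ← s.condition, MonObj.comp_pow, Category.comp_id, inv_mul_cancel]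
  have sqψ : IsPullback (fst G T) ψ q p2 := by
    refine IsPullback.of_isLimit' ⟨hψ2.symm⟩ (PullbackCone.IsLimit.mk _
      (fun s => lift s.fst (keyT _ (hkψ s)).choose) (fun s => lift_fst _ _) (fun s => ?_) (fun s m h1 h2 => ?_))
    · apply hsqP.hom_ext
      · rw [Category.assoc, hψ1, MonObj.comp_mul, MonObj.comp_pow, lift_fst, lift_snd_assoc,
          (keyT _ (hkψ s)).choose_spec, mul_inv_cancel_left]
      · rw [Category.assoc, hψ2, lift_fst_assoc]
        exact s.condition
    · apply CartesianMonoidalCategory.hom_ext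
      · rw [lift_fst]; exact h1
      · rw [lift_snd, ← cancel_mono i, (keyT _ (hkψ s)).choose_spec]
        have h1' : m ≫ fst G T = s.fst := h1
        have h2' : m ≫ ψ = s.snd := h2
        rw [← h2', Category.assoc, Category.assoc, hψ1, MonObj.comp_mul, MonObj.comp_pow, h1', inv_mul_cancel_left]
  -- the shear identifies the pullback of `φ` along `ψ`
  have hkφ : ∀ s : PullbackCone φ ψ, ((s.snd ≫ fst G T)⁻¹ * s.fst) ≫ q = 1 := fun s => by
    have h := congrArg (· ≫ p2) s.condition
    simp only [Category.assoc, hφ2, hψ2] at h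
    rw [MonObj.mul_comp, GrpObj.inv_comp, Category.assoc, h, inv_mul_cancel]
  have hwφ : μ' ≫ φ = (G ◁ (𝟙 T ^ N)) ≫ ψ := by
    apply hsqP.hom_ext
    · rw [Category.assoc, Category.assoc, hφ1, hψ1, MonObj.comp_pow, Category.comp_id, MonObj.comp_mul,
        MonObj.comp_pow, whiskerLeft_fst, whiskerLeft_snd_assoc, mul_pow, Isogeny14.hom_pow_comp i (𝟙 T),
        MonObj.comp_pow, Category.id_comp]
    · rw [Category.assoc, Category.assoc, hφ2, hψ2, hμq, whiskerLeft_fst_assoc]
  have sqφ : IsPullback μ' (G ◁ (𝟙 T ^ N)) φ ψ := by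
    refine IsPullback.of_isLimit' ⟨hwφ⟩ (PullbackCone.IsLimit.mk _
      (fun s => lift (s.snd ≫ fst G T) (keyT _ (hkφ s)).choose) (fun s => ?_) (fun s => ?_) (fun s m h1 h2 => ?_))
    · rw [MonObj.comp_mul, lift_fst, lift_snd_assoc, (keyT _ (hkφ s)).choose_spec, mul_inv_cancel_left]
    · apply CartesianMonoidalCategory.hom_ext
      · rw [Category.assoc, whiskerLeft_fst, lift_fst]
      · rw [Category.assoc, whiskerLeft_snd, lift_snd_assoc, MonObj.comp_pow, Category.comp_id, ← cancel_mono i,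
          Isogeny14.hom_pow_comp i (keyT _ (hkφ s)).choose, (keyT _ (hkφ s)).choose_spec]
        have h := congrArg (· ≫ p1) s.condition
        simp only [Category.assoc, hφ1, hψ1, MonObj.comp_mul, MonObj.comp_pow, Category.comp_id] at h
        rw [mul_pow, inv_pow, h, inv_mul_cancel_left, Category.assoc]
    · have h1' : m ≫ μ' = s.fst := h1
      have h2' : m ≫ (G ◁ (𝟙 T ^ N)) = s.snd := h2
      have hf : m ≫ fst G T = s.snd ≫ fst G T := by rw [← h2', Category.assoc, whiskerLeft_fst]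
      apply CartesianMonoidalCategory.hom_ext
      · rw [lift_fst, hf]
      · rw [lift_snd, ← cancel_mono i, (keyT _ (hkφ s)).choose_spec, ← h1', ← hf, MonObj.comp_mul,
          inv_mul_cancel_left, Category.assoc]
  -- properties
  haveI : LocallyOfFiniteType G.hom := inferInstance
  haveI : QuasiCompact q.left := Semiab15.qc_left q
  have mapψ := IsPullback.map (Over.forget _) sqψ
  have mapφ := IsPullback.map (Over.forget _) sqφ
  have mapT := IsPullback.map (Over.forget _) (AbRigid.isPullback_whiskerLeft (𝟙 T ^ N) G)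
  have mapP := IsPullback.map (Over.forget _) hsqP
  simp only [Over.forget_map, Over.forget_obj] at mapψ mapφ mapT mapP
  haveI : Flat ψ.left := MorphismProperty.of_isPullback mapψ ‹Flat q.left›
  haveI : Surjective ψ.left := MorphismProperty.of_isPullback mapψ ‹Surjective q.left›
  haveI : QuasiCompact ψ.left := MorphismProperty.of_isPullback mapψ ‹QuasiCompact q.left›
  haveI : IsFinite (G ◁ (𝟙 T ^ N)).left := MorphismProperty.of_isPullback mapT hTf
  haveI : Flat (G ◁ (𝟙 T ^ N)).left := MorphismProperty.of_isPullback mapT hTfl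
  have hTr' : ∀ z, Scheme.Hom.finrank (G ◁ (𝟙 T ^ N)).left z = N ^ t := fun z => by
    rw [Scheme.Hom.finrank_of_isPullback _ _ _ _ mapT z, hTr]
  haveI := FpqcDesc.descendsAlong_isFinite.{u}
  haveI : IsFinite φ.left := MorphismProperty.of_isPullback_of_descendsAlong
    (P := @IsFinite) (Q := @Surjective ⊓ @Flat ⊓ @QuasiCompact) mapφ.flip
    ⟨⟨inferInstance, inferInstance⟩, inferInstance⟩ ‹IsFinite (G ◁ (𝟙 T ^ N)).left›
  haveI : Flat μ'.left := MorphismProperty.of_isPullback mapφ.flip ‹Flat ψ.left›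
  haveI : Surjective μ'.left := MorphismProperty.of_isPullback mapφ.flip ‹Surjective ψ.left›
  haveI : Flat φ.left := by
    haveI : Flat (μ'.left ≫ φ.left) := by rw [mapφ.w]; infer_instance
    exact H12.flat_of_comp_of_surjective μ'.left φ.left
  have hφr : ∀ y, Scheme.Hom.finrank φ.left y = N ^ t := fun y => by
    obtain ⟨z, rfl⟩ := ψ.left.surjective y
    rw [← Scheme.Hom.finrank_of_isPullback _ _ _ _ mapφ z, hTr']
  haveI : IsFinite p1.left := MorphismProperty.of_isPullback mapP.flip hBf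
  haveI : Flat p1.left := MorphismProperty.of_isPullback mapP.flip hBfl
  have hp1r : ∀ y, Scheme.Hom.finrank p1.left y = N ^ (2 * a) := fun y => by
    rw [Scheme.Hom.finrank_of_isPullback _ _ _ _ mapP.flip y, hBr]
  -- the kernel
  let c1 : pullback p1 η[G] ⟶ pullback q (𝟙 B ^ N) := pullback.fst p1 η[G]
  let c2 : pullback p1 η[G] ⟶ 𝟙_ _ := pullback.snd p1 η[G]
  have hsq0 : IsPullback c1 c2 p1 η[G] := IsPullback.of_hasPullback _ _
  let l : K ⟶ pullback p1 η[G] := pullback.lift (κ ≫ φ) (toUnit K) (by rw [Category.assoc, hφ1, hK.w])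
  have hl1 : l ≫ c1 = κ ≫ φ := pullback.lift_fst _ _ _
  have hl2 : l ≫ c2 = toUnit K := pullback.lift_snd _ _ _
  have hK' : IsPullback κ (l ≫ c2) (φ ≫ p1) η[G] := by rw [hl2, hφ1]; exact hK
  have sqK : IsPullback κ l φ c1 := IsPullback.of_bot hK' hl1.symm hsq0
  have mapK := IsPullback.map (Over.forget _) sqK
  have map0 := IsPullback.map (Over.forget _) hsq0
  simp only [Over.forget_map, Over.forget_obj] at mapK map0
  haveI : IsFinite l.left := MorphismProperty.of_isPullback mapK ‹IsFinite φ.left›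
  haveI : Flat l.left := MorphismProperty.of_isPullback mapK ‹Flat φ.left›
  haveI : IsFinite c2.left := MorphismProperty.of_isPullback map0 ‹IsFinite p1.left›
  haveI : Flat c2.left := MorphismProperty.of_isPullback map0 ‹Flat p1.left›
  have hlr : ∀ y, Scheme.Hom.finrank l.left y = N ^ t := fun y => by
    rw [Scheme.Hom.finrank_of_isPullback _ _ _ _ mapK y, hφr]
  have hcomp : l.left ≫ c2.left = K.hom := by
    rw [← Over.comp_left, hl2]
    rfl
  refine ⟨⟨?_, ?_, ?_⟩, fun s => ?_⟩
  · rw [← hcomp]; infer_instance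
  · exact QuotField20.flat_hom K
  · haveI : IsFinite K.hom := by rw [← hcomp]; infer_instance
    exact LocallyOfFinitePresentation.iff_locallyOfFiniteType.2 inferInstance
  · rw [← hcomp]
    show Scheme.Hom.finrank (l.left ≫ c2.left) s = _
    erw [RRKL13.finrank_comp l.left c2.left (N ^ t) hlr s, Scheme.Hom.finrank_of_isPullback _ _ _ _ map0 s, hp1r,
      pow_add]

end Groth.Agent.TorsTorus15
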