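import Groth.Agent.Lib.DiagGL.Chars
import Groth.Agent.Lib.Semiab15.Basic
import Groth.Agent.Lib.AttrBorel21.MTNilp
import Groth.Agent.Lib.AbRigid.KernelPair
import Groth.Agent.Lib.AbRigid.Isogeny
import Mathlib.AlgebraicGeometry.Morphisms.FlatRank

/-!
# The powers on a split torus: surjectivity and the kernel
-/

set_option autoImplicit false
set_option linter.style.haveILetI false
set_option maxSynthPendingDepth 3
set_option backward.isDefEq.respectTransparency false
set_option backward.isDefEq.respectTransparency.types false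
universe u

open CategoryTheory Limits MonoidalCategory CartesianMonoidalCategory MonObj AlgebraicGeometry

noncomputable section

namespace Groth.Agent.TorsTorus15

open DiagGL

variable {k : Type u} [Field k] {d : ℕ}

/-- Two homomorphisms from the lattice which agree on the basis are equal. -/
theorem hom_eq {R : Type u} [CommMonoid R] (f g : Multiplicative (Fin d → ℤ) →* R)
    (h : ∀ l, f (Multiplicative.ofAdd (Pi.single l (1 : ℤ))) = g (Multiplicative.ofAdd (Pi.single l (1 : ℤ)))) :
    f = g := by
  refine MonoidHom.ext fun a => ?_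
  have ha : a = ∏ l, (Multiplicative.ofAdd (Pi.single l (1 : ℤ) : Fin d → ℤ)) ^ (a.toAdd l) := by
    refine Multiplicative.toAdd.injective ?_
    simp only [toAdd_prod, toAdd_zpow, toAdd_ofAdd]
    funext j
    simp [Finset.sum_apply, Pi.single_apply]
  refine congrArg Units.val (?_ : f.toHomUnits a = g.toHomUnits a)
  rw [ha, map_prod, map_prod]
  refine Finset.prod_congr rfl fun l _ => ?_
  rw [map_zpow, map_zpow]
  congr 1
  exact Units.ext (h l)

variable {T : Over (Spec (CommRingCat.of k))} [GrpObj T]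

theorem ch_pow {M : Type} [AddCommGroup M] (C : Chars M T) {X : Over (Spec (CommRingCat.of k))} (x : X ⟶ T)
    (n : ℕ) (a : Multiplicative M) : C.ch (x ^ n) a = C.ch x a ^ n := by
  induction n with
  | zero => rw [pow_zero, pow_zero, C.one]
  | succ n ih => rw [pow_succ, pow_succ, C.mul, ih]

/-- Powers are surjective on a split torus. -/
theorem surjective_pow (C : Chars (Fin d → ℤ) T) {N : ℕ} (hN : 0 < N) : Surjective (𝟙 T ^ N).left := by
  refine ⟨fun p => ?_⟩
  let Ω := AlgebraicClosure (T.left.residueField p)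
  let g : Spec (CommRingCat.of Ω) ⟶ T.left :=
    Spec.map (CommRingCat.ofHom (algebraMap (T.left.residueField p) Ω)) ≫ T.left.fromSpecResidueField p
  let W : Over (Spec (CommRingCat.of k)) := Over.mk (g ≫ T.hom)
  let x : W ⟶ T := Over.homMk g rfl
  let e : Γ(W.left, ⊤) ≃+* Ω := (Scheme.ΓSpecIso (CommRingCat.of Ω)).commRingCatIsoToRingEquiv
  let c : Multiplicative (Fin d → ℤ) →* Ω := e.toRingHom.toMonoidHom.comp (C.ch x)
  have hr : ∀ l, ∃ r : Ω, r ^ N = c (Multiplicative.ofAdd (Pi.single l (1 : ℤ))) := fun l =>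
    IsAlgClosed.exists_pow_nat_eq _ hN
  choose r hr using hr
  have hu : ∀ l, IsUnit (r l) := fun l => by
    rw [← isUnit_pow_iff hN.ne', hr]
    exact (Group.isUnit _).map c
  let ψ : Multiplicative (Fin d → ℤ) →* Ω := (Units.coeHom Ω).comp (MonoidHom.mk'
    (fun m => ∏ j, (hu j).unit ^ m.toAdd j) fun m m' => by
      simp only [toAdd_mul, Pi.add_apply, zpow_add, Finset.prod_mul_distrib])
  have hψ : ∀ l, ψ (Multiplicative.ofAdd (Pi.single l (1 : ℤ))) = r l := fun l => by
    show ((∏ i, (hu i).unit ^ (Pi.single l 1 : Fin d → ℤ) i : Ωˣ) : Ω) = _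
    rw [Finset.prod_eq_single l]
    · rw [Pi.single_eq_same, zpow_one, IsUnit.unit_spec]
    · intro i _ hi
      rw [Pi.single_eq_of_ne hi, zpow_zero]
    · simp
  obtain ⟨y, hy⟩ := C.surj (e.symm.toRingHom.toMonoidHom.comp ψ)
  have hxy : y ^ N = x := C.inj fun a => by
    refine DFunLike.congr_fun (hom_eq (C.ch (y ^ N)) (C.ch x) fun l => e.injective ?_) a
    rw [ch_pow, hy, map_pow]
    show e (e.symm (ψ _)) ^ N = _
    rw [e.apply_symm_apply, hψ, hr]
    rfl
  have h2 : y.left ≫ (𝟙 T ^ N).left = g := by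
    rw [← Over.comp_left, MonObj.comp_pow, Category.comp_id, hxy]
    rfl
  have hg : g (IsLocalRing.closedPoint Ω) = p := by
    simp only [g, Scheme.Hom.comp_apply]
    exact T.left.fromSpecResidueField_apply p _
  have hy' : (y.left ≫ (𝟙 T ^ N).left) (IsLocalRing.closedPoint Ω) = p :=
    (congrArg (fun f : Spec (CommRingCat.of Ω) ⟶ T.left => f (IsLocalRing.closedPoint Ω)) h2).trans hg
  exact ⟨_, (Scheme.Hom.comp_apply _ _ _).symm.trans hy'⟩

/-- The kernel of a power on a split torus is finite of rank `N ^ d`. -/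
theorem exists_kernel_pow [IsCommMonObj T] (C : Chars (Fin d → ℤ) T) {N : ℕ} [NeZero N] :
    ∃ (D : Over (Spec (CommRingCat.of k))) (_ : GrpObj D) (j : D ⟶ T), IsMonHom j ∧
      AlgGrp.IsKernel j (𝟙 T ^ N) ∧ IsFinite D.hom ∧
        ∀ s, Scheme.Hom.finrank D.hom s = N ^ d := by
  classical
  let π : (Fin d → ℤ) →+ (Fin d → ZMod N) := (Int.castAddHom (ZMod N)).compLeft (Fin d)
  let sec : (Fin d → ZMod N) → (Fin d → ℤ) := fun v l => (ZMod.cast (v l) : ℤ)
  have hsec : ∀ v, π (sec v) = v := fun v => funext fun l => ZMod.intCast_zmod_cast (v l)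
  let D := Red.diag k (Fin d → ZMod N)
  let CD := charsDiag k (Fin d → ZMod N)
  obtain ⟨j, hj⟩ := C.surj (T := D) ((CD.ch (𝟙 D)).comp π.toMultiplicative)
  have hch : ∀ {X : Over (Spec (CommRingCat.of k))} (z : X ⟶ D) (a : Multiplicative (Fin d → ℤ)),
      C.ch (z ≫ j) a = CD.ch z (π.toMultiplicative a) := fun z a => by
    rw [C.nat, hj, MonoidHom.comp_apply, ← CD.nat, Category.comp_id]
  haveI hjm : IsMonHom j := AttrBorel21.isMonHom_of_forall_mul j fun X x y => C.inj fun a => by
    rw [C.mul, hch, hch, hch, CD.mul]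
  haveI : Mono j := ⟨fun {X} z z' h => CD.inj fun v => by
    have hv : v = π.toMultiplicative (Multiplicative.ofAdd (sec v.toAdd)) :=
      Multiplicative.toAdd.injective (hsec v.toAdd).symm
    rw [hv, ← hch, ← hch, h]⟩
  have hjN : j ≫ (𝟙 T ^ N) = toUnit D ≫ η[T] := by
    rw [MonObj.comp_pow, Category.comp_id, ← Hom.one_def]
    refine C.inj fun a => ?_
    rw [ch_pow, ← Category.id_comp j, hch, ← map_pow, ← map_pow, C.one]
    have h0 : a.toAdd ∈ (Set.univ : Set (Fin d → ℤ)) := trivial
    have : π.toMultiplicative (a ^ N) = 1 := Multiplicative.toAdd.injective (funext fun l => by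
      show ((((N : ℕ) • a.toAdd) l : ℤ) : ZMod N) = 0
      simp)
    rw [this, map_one]
  have key : ∀ {X : Over (Spec (CommRingCat.of k))} (h : X ⟶ T), h ^ N = 1 → ∃ z : X ⟶ D, z ≫ j = h := by
    intro X h hh
    have hcong : ∀ a b : Fin d → ℤ, π a = π b →
        C.ch h (Multiplicative.ofAdd a) = C.ch h (Multiplicative.ofAdd b) := by
      intro a b hab
      have hd : ∀ l, (N : ℤ) ∣ a l - b l := fun l =>
        (ZMod.intCast_eq_intCast_iff_dvd_sub _ _ N).1 (congrFun hab l).symm
      choose w hw using hd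
      have hab' : Multiplicative.ofAdd a = Multiplicative.ofAdd w ^ N * Multiplicative.ofAdd b := by
        refine Multiplicative.toAdd.injective (funext fun l => ?_)
        show a l = ((N : ℕ) • w) l + b l
        simp only [Pi.smul_apply, nsmul_eq_mul]
        have := hw l
        linarith
      rw [hab', map_mul, map_pow, ← ch_pow, hh, C.one, _root_.one_mul]
    let c : Multiplicative (Fin d → ZMod N) →* Γ(X.left, ⊤) :=
      { toFun := fun v => C.ch h (Multiplicative.ofAdd (sec v.toAdd))
        map_one' := by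
          rw [hcong _ 0 (by rw [hsec, map_zero]; rfl)]
          exact map_one _
        map_mul' := fun v v' => by
          rw [hcong _ (sec v.toAdd + sec v'.toAdd) (by rw [map_add, hsec, hsec, hsec]; rfl), ofAdd_add, map_mul] }
    obtain ⟨z, hz⟩ := CD.surj c
    refine ⟨z, C.inj fun a => ?_⟩
    rw [hch, hz]
    exact hcong _ _ (hsec _)
  refine ⟨D, inferInstance, j, hjm, ?_, ?_, ?_⟩
  · have hk : ∀ s : PullbackCone (𝟙 T ^ N) η[T], s.fst ^ N = 1 := fun s => by
      have := s.condition
      erw [MonObj.comp_pow, Category.comp_id, toUnit_unique s.snd (toUnit _), ← Hom.one_def] at this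
      exact this
    exact IsPullback.of_isLimit' ⟨hjN⟩ (PullbackCone.IsLimit.mk _ (fun s => (key s.fst (hk s)).choose)
      (fun s => (key s.fst (hk s)).choose_spec) (fun s => toUnit_unique _ _)
      (fun s m hm _ => (cancel_mono j).1 (hm.trans (key s.fst (hk s)).choose_spec.symm)))
  · haveI : Module.Finite k (MonoidAlgebra k (Multiplicative (Fin d → ZMod N))) :=
      Module.Finite.of_basis (MonoidAlgebra.basis (Multiplicative (Fin d → ZMod N)) k)
    show IsFinite (Spec.map (CommRingCat.ofHom (algebraMap k (MonoidAlgebra k (Multiplicative (Fin d → ZMod N))))))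
    rw [IsFinite.SpecMap_iff]
    exact RingHom.finite_algebraMap.2 inferInstance
  · intro s
    haveI : Module.Finite k (MonoidAlgebra k (Multiplicative (Fin d → ZMod N))) :=
      Module.Finite.of_basis (MonoidAlgebra.basis (Multiplicative (Fin d → ZMod N)) k)
    show Scheme.Hom.finrank
      (Spec.map (CommRingCat.ofHom (algebraMap k (MonoidAlgebra k (Multiplicative (Fin d → ZMod N)))))) s = _
    rw [Scheme.Hom.finrank_SpecMap_algebraMap, Module.rankAtStalk_eq_finrank_of_free,
      Pi.natCast_apply, Module.finrank_eq_card_basis (MonoidAlgebra.basis (Multiplicative (Fin d → ZMod N)) k)]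
    simp

end Groth.Agent.TorsTorus15
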