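import Groth.Agent.Lib.TorsTorus15.Split
import Groth.Agent.Lib.AttrBorel21.Count
import Groth.Agent.Lib.TorPts21.FieldDescent
import Groth.Agent.Lib.TorPts21.Split
import Groth.Agent.Lib.CurveLocus.GeomFibre
import Groth.Agent.Lib.SemiNhd19.Fibres
import Groth.Agent.Lib.FpqcDesc.Basic
import Groth.Agent.Lib.Semiab15.Torus
import Mathlib.FieldTheory.IsAlgClosed.AlgebraicClosure

/-!
# The powers on a torus are finite flat of rank `N ^ dim`
-/

set_option autoImplicit false
set_option linter.style.haveILetI false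
set_option maxSynthPendingDepth 3
set_option backward.isDefEq.respectTransparency false
set_option backward.isDefEq.respectTransparency.types false
universe u

open CategoryTheory Limits MonoidalCategory CartesianMonoidalCategory MonObj AlgebraicGeometry

noncomputable section

namespace Groth.Agent.TorsTorus15

open DiagGL

variable {k : Type u} [Field k] {d : ℕ} {T : Over (Spec (CommRingCat.of k))} [GrpObj T]

/-- The dimension of a split torus of rank `d` is `d`. -/
theorem dim_eq (C : Chars (Fin d → ℤ) T) [Smooth T.hom] [ConnectedSpace T.left] [IsAffineHom T.hom] :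
    topologicalKrullDim T.left = (d : WithBot ℕ∞) := by
  classical
  let R : Type u := MvPolynomial (Fin d) k
  let f : R := ∏ l : Fin d, MvPolynomial.X l
  let L : Type u := Localization.Away f
  have hf : f ≠ 0 := Finset.prod_ne_zero_iff.2 fun l _ => MvPolynomial.X_ne_zero _
  haveI : IsDomain L := IsLocalization.isDomain_localization (powers_le_nonZeroDivisors_of_noZeroDivisors hf)
  haveI : Algebra.FinitePresentation R L := IsLocalization.Away.finitePresentation f
  haveI : Algebra.FiniteType k L := Algebra.FiniteType.trans (S := R) inferInstance inferInstance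
  have hinj : Function.Injective (algebraMap R L) :=
    IsLocalization.injective L (powers_le_nonZeroDivisors_of_noZeroDivisors hf)
  have htd : Algebra.trdeg k L = (d : Cardinal) := by
    haveI : FaithfulSMul R L := (faithfulSMul_iff_algebraMap_injective R L).2 hinj
    haveI : Algebra.IsAlgebraic R L := IsLocalization.isAlgebraic _ (Submonoid.powers f)
    rw [← trdeg_add_eq k R (A := L), trdeg_eq_zero (R := R) (A := L), add_zero, MvPolynomial.trdeg_of_isDomain,
      Cardinal.mk_fintype]
    simp
  have htdeg : VarDim.tdeg k L = d := by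
    have := (VarDim.trdeg_eq_tdeg k L).symm.trans htd
    exact_mod_cast this
  have hPdim : topologicalKrullDim (CoactBr.sp k L).left = (d : WithBot ℕ∞) := by
    show topologicalKrullDim (PrimeSpectrum L) = _
    rw [PrimeSpectrum.topologicalKrullDim_eq_ringKrullDim, VarDim.ringKrullDim_eq_tdeg k L, htdeg]
  haveI : LocallyOfFiniteType (CoactBr.sp k L).hom := by
    show LocallyOfFiniteType (Spec.map (CommRingCat.ofHom (algebraMap k L)))
    rw [HasRingHomProperty.Spec_iff (P := @LocallyOfFiniteType)]
    exact RingHom.finiteType_algebraMap.2 inferInstance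
  haveI : IsAffine T.left := isAffine_of_isAffineHom T.hom
  haveI : IsAffine (CoactBr.sp k L).left := inferInstanceAs (IsAffine (Spec _))
  haveI : QuasiCompact (CoactBr.sp k L).hom :=
    inferInstanceAs (QuasiCompact (Spec.map (CommRingCat.ofHom (algebraMap k L))))
  haveI : QuasiCompact T.hom := inferInstance
  haveI := Semiab15.geometricallyIntegral_of_smooth T
  haveI : IsIntegral T.left := GeometricallyIntegral.isIntegral_of_subsingleton T.hom
  haveI : IrreducibleSpace T.left := inferInstance
  haveI : IrreducibleSpace (CoactBr.sp k L).left := inferInstanceAs (IrreducibleSpace (PrimeSpectrum L))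
  have hu : ∀ l : Fin d, IsUnit (algebraMap R L (MvPolynomial.X l)) := fun l =>
    isUnit_of_dvd_unit (map_dvd _ (Finset.dvd_prod_of_mem
      (fun l : Fin d => (MvPolynomial.X l : R)) (Finset.mem_univ l)))
      (show IsUnit (algebraMap R L f) from IsLocalization.Away.algebraMap_isUnit f)
  let ψm : Multiplicative (Fin d → ℤ) →* L := (Units.coeHom L).comp (MonoidHom.mk'
    (fun m => ∏ j, (hu j).unit ^ m.toAdd j) fun m m' => by
      simp only [toAdd_mul, Pi.add_apply, zpow_add, Finset.prod_mul_distrib])
  have hψm : ∀ l, ψm (Multiplicative.ofAdd (Pi.single l (1 : ℤ))) = algebraMap R L (MvPolynomial.X l) := fun l => by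
    show ((∏ i, (hu i).unit ^ (Pi.single l 1 : Fin d → ℤ) i : Lˣ) : L) = _
    rw [Finset.prod_eq_single l]
    · rw [Pi.single_eq_same, zpow_one, IsUnit.unit_spec]
    · intro i _ hi
      rw [Pi.single_eq_of_ne hi, zpow_zero]
    · simp
  obtain ⟨x, hx⟩ := C.surj (T := CoactBr.sp k L)
    ((Scheme.ΓSpecIso (CommRingCat.of L)).inv.hom.toMonoidHom.comp ψm)
  let gen : Fin d → Γ(T.left, ⊤) := fun l => C.ch (𝟙 T) (Multiplicative.ofAdd (Pi.single l (1 : ℤ)))
  have hgu : IsUnit (MvPolynomial.eval₂Hom (alg T) gen f) := by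
    simp only [f, map_prod, MvPolynomial.eval₂Hom_X', IsUnit.prod_iff]
    exact fun l _ => (Group.isUnit _).map _
  let Φ : L →+* Γ(T.left, ⊤) := IsLocalization.Away.lift f hgu
  have hΦ : ∀ r : R, Φ (algebraMap R L r) = MvPolynomial.eval₂Hom (alg T) gen r := fun r =>
    IsLocalization.Away.lift_eq f hgu r
  let y : T ⟶ CoactBr.sp k L := mk (T := T) (A := L) Φ fun c => by
    rw [IsScalarTower.algebraMap_apply k R L, hΦ, MvPolynomial.algebraMap_eq, MvPolynomial.eval₂Hom_C]
  haveI hxm : Mono x := ⟨fun {X} ψ ψ' h => ev_injective fun a => DFunLike.congr_fun (by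
    refine IsLocalization.ringHom_ext (Submonoid.powers f) (MvPolynomial.ringHom_ext (fun c => ?_) fun l => ?_)
    · show ev ψ (algebraMap R L (MvPolynomial.C c)) = ev ψ' (algebraMap R L (MvPolynomial.C c))
      rw [← MvPolynomial.algebraMap_eq, ← IsScalarTower.algebraMap_apply k R L, ev_algebraMap, ev_algebraMap]
    · show ev ψ (algebraMap R L (MvPolynomial.X l)) = ev ψ' (algebraMap R L (MvPolynomial.X l))
      have hc : ∀ χ : X ⟶ CoactBr.sp k L, C.ch (χ ≫ x) (Multiplicative.ofAdd (Pi.single l 1)) =
          ev χ (algebraMap R L (MvPolynomial.X l)) := fun χ => by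
        rw [C.nat, hx]
        show χ.left.appTop ((Scheme.ΓSpecIso (CommRingCat.of L)).inv (ψm _)) = _
        rw [hψm]
        rfl
      rw [← hc, ← hc, h]) a⟩
  haveI hym : Mono y := ⟨fun {X} ψ ψ' h => C.inj fun a => DFunLike.congr_fun (hom_eq (C.ch ψ) (C.ch ψ') fun l => by
    have hc : ∀ χ : X ⟶ T, C.ch χ (Multiplicative.ofAdd (Pi.single l 1)) =
        ev (χ ≫ y) (algebraMap R L (MvPolynomial.X l)) := fun χ => by
      rw [ev_comp, ev_mk, hΦ, MvPolynomial.eval₂Hom_X', ← C.nat, Category.comp_id]
    rw [hc, hc, h]) a⟩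
  haveI : Mono x.left := inferInstance
  haveI : Mono y.left := inferInstance
  haveI : LocallyOfFiniteType (x.left ≫ T.hom) := by rw [Over.w x]; infer_instance
  haveI : LocallyOfFiniteType x.left := locallyOfFiniteType_of_comp x.left T.hom
  haveI : LocallyOfFiniteType (y.left ≫ (CoactBr.sp k L).hom) := by rw [Over.w y]; infer_instance
  haveI : LocallyOfFiniteType y.left := locallyOfFiniteType_of_comp y.left (CoactBr.sp k L).hom
  haveI : IsAffineHom x.left := inferInstance
  haveI : IsAffineHom y.left := inferInstance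
  refine le_antisymm ?_ ?_
  · rw [← hPdim]
    exact AttrBorel21.dim_le_of_mono y.left (CoactBr.sp k L).hom
  · rw [← hPdim]
    exact AttrBorel21.dim_le_of_mono x.left T.hom

/-- On a split torus a power is finite flat surjective of rank `N ^ d`. -/
theorem pow_props_split (C : Chars (Fin d → ℤ) T) [IsCommMonObj T] [Smooth T.hom] [ConnectedSpace T.left]
    [IsAffineHom T.hom] {N : ℕ} (hN : 0 < N) :
    IsFinite (𝟙 T ^ N).left ∧ ∀ x : T.left, Scheme.Hom.finrank (𝟙 T ^ N).left x = N ^ d := by
  haveI : NeZero N := ⟨hN.ne'⟩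
  haveI : Surjective (𝟙 T ^ N).left := surjective_pow C hN
  haveI : IsMonHom (𝟙 T ^ N) := Semiab15.isMonHom_pow (𝟙 T) N
  haveI := Semiab15.geometricallyIntegral_of_smooth T
  haveI : IsIntegral T.left := GeometricallyIntegral.isIntegral_of_subsingleton T.hom
  haveI : Flat (𝟙 T ^ N).left := AbRigid.flat_of_surjective T T _
  haveI : QuasiCompact (𝟙 T ^ N).left := Semiab15.qc_left _
  obtain ⟨D, _, j, hj, hker, hDf, hDr⟩ := exists_kernel_pow C (N := N)
  haveI := hDf
  have hsq : IsPullback (fst T D).left (fst T D * (snd T D ≫ j)).left (𝟙 T ^ N).left (𝟙 T ^ N).left :=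
    IsPullback.map (Over.forget _) (AbRigid.isPullback_kernelPair _ j hker)
  have hb : IsPullback (snd T D).left (fst T D).left D.hom T.hom := (IsPullback.of_hasPullback T.hom D.hom).flip
  haveI : IsFinite (fst T D).left := MorphismProperty.of_isPullback hb hDf
  haveI := FpqcDesc.descendsAlong_isFinite.{u}
  haveI hfin : IsFinite (𝟙 T ^ N).left := MorphismProperty.of_isPullback_of_descendsAlong
    (P := @IsFinite) (Q := @Surjective ⊓ @Flat ⊓ @QuasiCompact) hsq
    ⟨⟨inferInstance, inferInstance⟩, inferInstance⟩ ‹IsFinite (fst T D).left›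
  refine ⟨hfin, fun x => ?_⟩
  obtain ⟨z, rfl⟩ := (𝟙 T ^ N).left.surjective x
  haveI : Flat D.hom := QuotField20.flat_hom D
  rw [← Scheme.Hom.finrank_of_isPullback _ _ _ _ hsq.flip z, Scheme.Hom.finrank_of_isPullback _ _ _ _ hb z, hDr]

/-- On a torus of dimension `t` a power is finite flat surjective of rank `N ^ t`. -/
theorem pow_props {k : Type u} [Field k] {T : Over (Spec (CommRingCat.of k))} [GrpObj T] (hT : Red.IsTorus T)
    {t : ℕ} (ht : topologicalKrullDim T.left = t) {N : ℕ} (hN : 0 < N) :
    IsFinite (𝟙 T ^ N).left ∧ Flat (𝟙 T ^ N).left ∧ Surjective (𝟙 T ^ N).left ∧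
      ∀ x : T.left, Scheme.Hom.finrank (𝟙 T ^ N).left x = N ^ t := by
  let K := AlgebraicClosure k
  let φ : Spec (CommRingCat.of K) ⟶ Spec (CommRingCat.of k) := Spec.map (CommRingCat.ofHom (algebraMap k K))
  haveI : Surjective φ := ⟨fun z => ⟨IsLocalRing.closedPoint K, Subsingleton.elim _ _⟩⟩
  haveI : Flat φ := QuotField20.flat_hom (Over.mk φ)
  obtain ⟨hl, hqc, haff, hcomm⟩ := Semiab15.torus_props hT
  haveI := hl; haveI := hqc; haveI := haff; haveI := hcomm
  obtain ⟨hs, hc⟩ := TorPts21.smooth_connected_of_isTorus hT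
  haveI := hs; haveI := hc
  have hT' := TorPts21.isTorus_bc φ hT
  obtain ⟨hl', hqc', haff', hcomm'⟩ := Semiab15.torus_props hT'
  haveI := hl'; haveI := hqc'; haveI := haff'; haveI := hcomm'
  obtain ⟨hs', hc'⟩ := TorPts21.smooth_connected_of_isTorus hT'
  haveI := hs'; haveI := hc'
  obtain ⟨d, ⟨C⟩⟩ := TorPts21.exists_chars hT'
  have hd : d = t := by
    have h1 := dim_eq C
    rw [show topologicalKrullDim (Red.bc φ T).left = topologicalKrullDim T.left from
      CurveLocus.topologicalKrullDim_bc T.hom (IsPullback.of_hasPullback T.hom φ), ht] at h1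
    exact_mod_cast h1.symm
  obtain ⟨hf', hr'⟩ := pow_props_split C hN
  have e : (Over.pullback φ).map (𝟙 T ^ N) = 𝟙 (Red.bc φ T) ^ N := by
    induction N with
    | zero => exact absurd hN (lt_irrefl 0)
    | succ n ih =>
      clear ih hf' hr'
      induction n with
      | zero => rw [pow_one, pow_one]; exact (Over.pullback φ).map_id T
      | succ n ih => rw [pow_succ, pow_succ (𝟙 (Red.bc φ T)), Functor.map_mul, ih (Nat.succ_pos _),
          CategoryTheory.Functor.map_id]
  have sq := (SemiNhd19.isPullback_map φ (𝟙 T ^ N)).flip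
  rw [e] at sq
  haveI : Flat (pullback.fst T.hom φ) := inferInstance
  haveI : Surjective (pullback.fst T.hom φ) := inferInstance
  haveI : QuasiCompact (pullback.fst T.hom φ) := inferInstance
  haveI := FpqcDesc.descendsAlong_isFinite.{u}
  haveI hfin : IsFinite (𝟙 T ^ N).left := MorphismProperty.of_isPullback_of_descendsAlong
    (P := @IsFinite) (Q := @Surjective ⊓ @Flat ⊓ @QuasiCompact) sq
    ⟨⟨inferInstance, inferInstance⟩, inferInstance⟩ hf'
  haveI : Surjective (𝟙 (Red.bc φ T) ^ N).left := surjective_pow C hN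
  haveI hsur : Surjective (𝟙 T ^ N).left := by
    haveI : Surjective (pullback.fst T.hom φ ≫ (𝟙 T ^ N).left) := by rw [sq.flip.w]; infer_instance
    exact Surjective.of_comp (pullback.fst T.hom φ) _
  haveI := Semiab15.geometricallyIntegral_of_smooth T
  haveI : IsIntegral T.left := GeometricallyIntegral.isIntegral_of_subsingleton T.hom
  haveI : IsMonHom (𝟙 T ^ N) := Semiab15.isMonHom_pow (𝟙 T) N
  haveI hflat : Flat (𝟙 T ^ N).left := AbRigid.flat_of_surjective T T _
  refine ⟨hfin, hflat, hsur, fun x => ?_⟩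
  obtain ⟨z, rfl⟩ := (pullback.fst T.hom φ).surjective x
  refine ((Scheme.Hom.finrank_of_isPullback _ _ _ _ sq.flip z).symm.trans ((hr' z).trans ?_))
  rw [hd]

end Groth.Agent.TorsTorus15
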